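import Cfsg.Agent.Lib.Leech.CrossOrbits
import Mathlib.Logic.Relation

/-!
The layers of the graph on crosses and the local conditions at a representative of each type.
-/

set_option autoImplicit false

noncomputable section

namespace Cfsg.Agent.Co1Layers

open Cfsg Cfsg.Agent.Leech
open scoped Pointwise

/-- The layer of a type. -/
def lay : XType → ℕ
  | .B => 1
  | .C6 => 2
  | .C42 => 2
  | .D => 3
  | .G => 3

open Classical in
/-- The layer of a cross. -/
def dX (X : Set leechLattice) : ℕ := if h : ∃ t, X ∈ crossOrbit t then lay h.choose else 0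

theorem dX_of_mem {t : XType} {X : Set leechLattice} (h : X ∈ crossOrbit t) : dX X = lay t := by
  have hx : ∃ t, X ∈ crossOrbit t := ⟨t, h⟩
  rw [dX, dif_pos hx, crossOrbit_unique hx.choose_spec h]

theorem dX_stdX : dX stdX = 0 := dif_neg fun ⟨t, h⟩ => stdX_not_mem t h

/-- Adjacent crosses: seen from the first the second is of type B. -/
def AdjX (X Y : Set leechLattice) : Prop := ∃ g : Co0, X = g • stdX ∧ g⁻¹ • Y ∈ crossOrbit .B

/-- A neighbour of the standard cross whose translate is one layer below the type. -/
def DownAt (t : XType) (g : Co0) (Y : Set leechLattice) : Prop :=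
  Y ∈ crossOrbit .B ∧ dX (g • Y) + 1 = lay t

/-- The local conditions at a translate of the standard cross of given type. -/
structure LocalCert (t : XType) (g : Co0) : Prop where
  mem : g • stdX ∈ crossOrbit t
  step : ∀ Y ∈ crossOrbit .B, dX (g • Y) ≤ lay t + 1
  down : ∃ R, DownAt t g R ∧ ∀ Y, DownAt t g Y →
    Relation.ReflTransGen (fun a b => AdjX a b ∧ DownAt t g b) R Y ∧
      Relation.ReflTransGen (fun a b => AdjX a b ∧ DownAt t g b) Y R
  apex : ∀ Y ∈ crossOrbit .B, dX (g • Y) = lay t → ∃ P, DownAt t g P ∧ AdjX Y P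

end Cfsg.Agent.Co1Layers
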